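import Cfsg.Agent.H469.HT.Rest
import Cfsg.Agent.H892.HT.Disp

/-!
# S4933, the field `rest` of `SporRows` (helper469)
-/

set_option autoImplicit false

namespace Cfsg.Agent.H469.HT

open Cfsg
open Cfsg.Agent.H316.HT Cfsg.Agent.H892.HT

/-- **the field `rest`** -/
theorem rest (p : ℕ) [Fact p.Prime] : SpR (fun p K _ => Row p K) p fun K => RestPair p K := by
  intro K _ _ _ _ h
  rcases h with h | h | h | h | h | h | h | h | h | h | h | h | h | h | h | h | h | h | h | h | h | h | h | h | h | h | h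
  · exact row_m11_rest h.1 h.2
  · exact row_m12_rest h.1 h.2.1 h.2.2
  · exact row_m22_rest h.1 h.2
  · exact row_m23_rest h.1 h.2
  · exact row_m24_rest h.1 h.2.1 h.2.2
  · exact row_j1_rest h
  · exact row_j2_rest h.1 h.2.1 h.2.2
  · exact row_j3_rest h.1 h.2.1 h.2.2
  · exact row_j4_rest h.1 h.2.1 h.2.2.1 h.2.2.2
  · exact row_co1_rest h.1 h.2.1 h.2.2.1 h.2.2.2
  · exact row_co2_rest h.1 h.2.1 h.2.2.1 h.2.2.2
  · exact row_co3_rest h.1 h.2.1 h.2.2.1 h.2.2.2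
  · exact row_mcl_rest h.1 h.2.1 h.2.2.1 h.2.2.2
  · exact row_hs_rest h.1 h.2.1 h.2.2
  · exact row_suz_rest h.1 h.2.1 h.2.2
  · exact row_he_rest h.1 h.2.1 h.2.2.1 h.2.2.2
  · exact row_ru_rest h.1 h.2.1 h.2.2.1 h.2.2.2
  · exact row_on_rest h.1 h.2.1 h.2.2
  · exact row_ly_rest h.1 h.2.1 h.2.2.1 h.2.2.2
  · exact row_fi22_rest h.1 h.2.1 h.2.2
  · exact row_fi23_rest h.1 h.2.1 h.2.2
  · exact row_fi24_rest h.1 h.2.1 h.2.2.1 h.2.2.2
  · exact row_hn_rest h.1 h.2.1 h.2.2.1 h.2.2.2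
  · exact row_th_rest h.1 h.2.1 h.2.2.1 h.2.2.2
  · exact row_b_rest h.1 h.2.1 h.2.2.1 h.2.2.2
  · exact row_m_rest h.1 h.2.1 h.2.2.1 h.2.2.2.1 h.2.2.2.2.1 h.2.2.2.2.2
  · exact row_tits_rest h.1 h.2.1 h.2.2

end Cfsg.Agent.H469.HT
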