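import Cfsg.Agent.H316.HT.Defs
import Cfsg.Agent.H573.Spor.ONThree
import Cfsg.Agent.H489.OutSpor
import Cfsg.Agent.NotCT.Orders
import Cfsg.Agent.H678.Codeg
import Cfsg.Agent.H852.IMSuz
import Cfsg.Agent.GH.EFrameTops

/-!
# S4933, box `s.rest` : sporadic groups and the Tits group, abelian Sylow `p`-subgroups (helper469)

* `row_of_comm` : `p ∤ |Out S|` and abelian Sylow `p`-subgroups: the row is vacuous;
* `row_of_cube` : `p` odd, `|Out S| ≤ 2`, `p ^ 3 ∤ |S|`;
* `row_X_rest` : the group `X`, all primes but those with a nonabelian Sylow subgroup.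
-/

set_option autoImplicit false

namespace Cfsg.Agent.H469.HT

open Subgroup Cfsg
open Cfsg.Agent.H316.HT

universe u v

theorem charDegree_of_comm {G : Type u} [Group G] [Finite G] (hK : ∀ a b : G, a * b = b * a) (τ : IrrCharacter G) :
    charDegree (τ : G → ℂ) = 1 := by
  have hc : charDegree (τ : G → ℂ) ^ 2 ≤ (center G).index := H678.Codeg.sq_charDegree_le_index_center τ
  have htop : center G = ⊤ := by
    rw [eq_top_iff]
    intro x _
    rw [mem_center_iff]
    intro y
    exact hK y x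
  rw [htop, index_top] at hc
  have h0 : 0 < charDegree (τ : G → ℂ) := by
    apply Nat.pos_of_ne_zero
    intro h1
    have h2 := Blocks.Basic.irr_one_eq_charDegree τ.2
    rw [h1, Nat.cast_zero] at h2
    exact Blocks.Basic.irr_one_ne_zero τ.2 h2
  nlinarith

/-- an abelian group has no second degree -/
theorem not_cd_of_comm {P : Type u} [Group P] [Finite P] (hc : ∀ a b : P, a * b = b * a) {p a : ℕ} (hp : p.Prime)
    (ha : 0 < a) : ¬ CD p a P := by
  rintro ⟨-, φ, hφ⟩
  rw [charDegree_of_comm hc φ] at hφ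
  have := Nat.one_lt_pow ha.ne' hp.one_lt
  omega

/-- `|A : N|` divides `|Out S|` -/
theorem index_dvd {A : Type u} {S : Type v} [Group A] [Finite A] [Group S] {N : Subgroup A} [N.Normal] (e : N ≃* S)
    (hcen : centralizer (N : Set A) = ⊥) : N.index ∣ Nat.card (Out S) := by
  have hfS : Finite S := Finite.of_equiv _ e.toEquiv
  let ψ : A →* MulAut S := (MulAut.congr e).toMonoidHom.comp MulAut.conjNormal
  have hψ : ∀ a s, ψ a s = e (MulAut.conjNormal a (e.symm s)) := fun a s => rfl
  let g : A →* Out S := (QuotientGroup.mk' (Inn S)).comp ψ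
  have hker : g.ker = N := by
    ext a
    rw [MonoidHom.mem_ker]
    have h1 : g a = 1 ↔ ψ a ∈ Inn S := QuotientGroup.eq_one_iff (ψ a)
    rw [h1]
    constructor
    · rintro ⟨s, hs⟩
      have h2 : (e.symm s : A)⁻¹ * a ∈ centralizer (N : Set A) := by
        rw [mem_centralizer_iff]
        intro n hn
        have h3 : ψ a (e ⟨n, hn⟩) = s * e ⟨n, hn⟩ * s⁻¹ := by
          rw [← hs]
          rfl
        rw [hψ, e.symm_apply_apply] at h3
        have h4 := congrArg (fun t => ((e.symm t : N) : A)) h3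
        simp only [e.symm_apply_apply, map_mul, map_inv, Subgroup.coe_mul, Subgroup.coe_inv,
          MulAut.conjNormal_apply] at h4
        have h5 : a * n = (e.symm s : A) * n * ((e.symm s : A)⁻¹ * a) := by
          rw [← mul_assoc, ← h4]
          group
        rw [mul_assoc _ a n, h5]
        group
      rw [hcen, mem_bot, inv_mul_eq_one] at h2
      rw [← h2]
      exact (e.symm s).2
    · intro ha
      refine ⟨e ⟨a, ha⟩, ?_⟩
      ext s
      rw [hψ]
      have h3 : MulAut.conjNormal a (e.symm s) = (⟨a, ha⟩ : N) * e.symm s * (⟨a, ha⟩ : N)⁻¹ := by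
        apply Subtype.ext
        rw [MulAut.conjNormal_apply]
        rfl
      rw [h3, map_mul, map_mul, map_inv, e.apply_symm_apply]
      rfl
  have h6 := Subgroup.card_subgroup_dvd_card g.range
  rw [← Nat.card_congr (QuotientGroup.quotientKerEquivRange g).toEquiv, hker] at h6
  exact h6

/-- a `p`-subgroup is contained in a normal subgroup of index prime to `p` -/
theorem le_of_index {A : Type u} [Group A] [Finite A] {p : ℕ} [hp : Fact p.Prime] {N : Subgroup A} [N.Normal]
    (h : ¬ p ∣ N.index) {P : Subgroup A} (hP : IsPGroup p P) : P ≤ N := by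
  intro x hx
  obtain ⟨k, hk⟩ := IsPGroup.iff_orderOf.1 hP ⟨x, hx⟩
  rw [Subgroup.orderOf_mk] at hk
  have h1 : orderOf (x : A ⧸ N) ∣ p ^ k := by
    rw [← hk]
    exact orderOf_map_dvd (QuotientGroup.mk' N) x
  have h2 : orderOf (x : A ⧸ N) ∣ N.index := orderOf_dvd_natCard _
  have h3 : Nat.Coprime (p ^ k) N.index := Nat.Coprime.pow_left k ((Nat.Prime.coprime_iff_not_dvd hp.out).2 h)
  have h4 : orderOf (x : A ⧸ N) = 1 := Nat.dvd_one.1 (h3 ▸ Nat.dvd_gcd h1 h2)
  rw [orderOf_eq_one_iff] at h4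
  exact (QuotientGroup.eq_one_iff x).1 h4

/-- **abelian Sylow `p`-subgroups, no outer automorphisms of order `p`** -/
theorem row_of_comm {S : Type v} [Group S] {p : ℕ} [hp : Fact p.Prime] (hout : ¬ p ∣ Nat.card (Out S))
    (hc : ∀ P : Sylow p S, IsMulCommutative (P : Subgroup S)) : Row p S := by
  rintro A _ _ N _ ⟨e⟩ hcen M - P a ha hCD
  exfalso
  refine not_cd_of_comm (P := (P : Subgroup A)) ?_ hp.out ha hCD
  have hle : (P : Subgroup A) ≤ N := le_of_index (fun h => hout (h.trans (index_dvd e hcen))) P.isPGroup'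
  let Q : Sylow p S := (P.subtype hle).mapSurjective (f := e.toMonoidHom) e.surjective
  have hQ := (hc Q).is_comm.comm
  intro x y
  have h1 : ∀ z : (P : Subgroup A), e ⟨z, hle z.2⟩ ∈ (Q : Subgroup S) := fun z => ⟨⟨z, hle z.2⟩, z.2, rfl⟩
  have h2 := congrArg Subtype.val (hQ ⟨_, h1 x⟩ ⟨_, h1 y⟩)
  have h3 : e (⟨x, hle x.2⟩ * ⟨y, hle y.2⟩) = e (⟨y, hle y.2⟩ * ⟨x, hle x.2⟩) := by
    rw [map_mul, map_mul]
    exact h2
  have h4 := congrArg Subtype.val (e.injective h3)
  exact Subtype.ext h4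

theorem not_dvd_two {p n : ℕ} [hp : Fact p.Prime] (h2 : p ≠ 2) (hn : n ≤ 2) (hn0 : n ≠ 0) : ¬ p ∣ n := by
  intro h
  have h3 := hp.out.two_le
  have h4 := Nat.le_of_dvd (Nat.pos_of_ne_zero hn0) h
  omega

theorem card_out_ne_zero {S : Type v} [Group S] [Finite S] : Nat.card (Out S) ≠ 0 :=
  Nat.card_pos.ne'

/-- `p` odd, `|Out S| ≤ 2`, `p ^ 3 ∤ |S|` -/
theorem row_of_cube {S : Type v} [Group S] [Finite S] {p : ℕ} [hp : Fact p.Prime] (h2 : p ≠ 2)
    (hout : Nat.card (Out S) ≤ 2) (h3 : ¬ p ^ 3 ∣ Nat.card S) : Row p S := by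
  refine row_of_comm (not_dvd_two h2 hout card_out_ne_zero) fun P => ?_
  obtain ⟨k, hk⟩ := IsPGroup.iff_card.1 P.isPGroup'
  have hk2 : k ≤ 2 := by
    by_contra hlt
    apply h3
    have h4 : p ^ 3 ∣ p ^ k := pow_dvd_pow p (by omega)
    rw [← hk] at h4
    exact h4.trans (Subgroup.card_subgroup_dvd_card _)
  have h5 : k = 0 ∨ k = 1 ∨ k = 2 := by omega
  rcases h5 with rfl | rfl | rfl
  · have : Subsingleton (P : Subgroup S) := (Nat.card_eq_one_iff_unique.1 (by simpa using hk)).1
    exact ⟨⟨fun a b => Subsingleton.elim _ _⟩⟩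
  · have : IsCyclic (P : Subgroup S) := isCyclic_of_prime_card (p := p) (by simpa using hk)
    exact IsCyclic.isMulCommutative
  · exact IsPGroup.isMulCommutative_of_card_eq_prime_sq hk

/-- `J₁`, `p = 2` -/
theorem row_j1_two {S : Type u} [Group S] (h : Spor.IsoJ1 S) : Row 2 S := by
  have hc : Nat.card S = 175560 := NotCT.Orders.j1 h
  have hfin : Finite S := Nat.finite_of_card_ne_zero (by rw [hc]; norm_num)
  have h2 : Fact (Nat.Prime 2) := ⟨Nat.prime_two⟩
  have hout : Nat.card (Out S) = 1 := by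
    obtain ⟨e⟩ := h
    rw [H55.OutGen.card_out_congr e]
    exact S2065.result
  refine row_of_comm (by rw [hout]; norm_num) fun P => ?_
  have h3 := (Cfsg.Agent.GH.EFrameTops.sylE8_J1 h P).2
  have key : ∀ a b : S, a * a = 1 → b * b = 1 → (b * a) * (b * a) = 1 → a * b = b * a := by
    intro a b ha hb hba
    calc a * b = (a * (b * b) * a) * (b * a)⁻¹ := by group
      _ = (b * a)⁻¹ := by rw [hb, mul_one, ha, one_mul]
      _ = b * a := inv_eq_of_mul_eq_one_left hba
  exact ⟨⟨fun a b => Subtype.ext (key a b (h3 a a.2) (h3 b b.2) (h3 _ (mul_mem b.2 a.2)))⟩⟩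

/-- `m11` : order `2^4 * 3^2 * 5^1 * 11^1` -/
theorem row_m11_rest {S : Type u} [Group S] (h : Spor.IsoM11 S) {p : ℕ} [hp : Fact p.Prime] (h2 : p ≠ 2) : Row p S := by
  have hc : Nat.card S = 7920 := NotCT.Orders.m11 h
  have hfin : Finite S := Nat.finite_of_card_ne_zero (by rw [hc]; norm_num)
  refine row_of_cube h2 (H489.card_out_sporadic (by simp only [IsSporadicGroup, h, true_or, or_true])) fun h0 => ?_
  rw [hc] at h0
  have hm : p ∈ [2, 3, 5, 11] := H852.IMSuz.prime_cases' hp.out [2, 3, 5, 11] (by norm_num) 4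
    (n := 7920) ((dvd_pow_self p three_ne_zero).trans h0) (by norm_num)
  simp only [List.mem_cons, List.not_mem_nil, or_false] at hm
  rcases hm with rfl | rfl | rfl | rfl
  · exact h2 rfl
  · norm_num at h0
  · norm_num at h0
  · norm_num at h0

/-- `m12` : order `2^6 * 3^3 * 5^1 * 11^1` -/
theorem row_m12_rest {S : Type u} [Group S] (h : Spor.IsoM12 S) {p : ℕ} [hp : Fact p.Prime] (h2 : p ≠ 2) (h3 : p ≠ 3) : Row p S := by
  have hc : Nat.card S = 95040 := NotCT.Orders.m12 h
  have hfin : Finite S := Nat.finite_of_card_ne_zero (by rw [hc]; norm_num)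
  refine row_of_cube h2 (H489.card_out_sporadic (by simp only [IsSporadicGroup, h, true_or, or_true])) fun h0 => ?_
  rw [hc] at h0
  have hm : p ∈ [2, 3, 5, 11] := H852.IMSuz.prime_cases' hp.out [2, 3, 5, 11] (by norm_num) 6
    (n := 95040) ((dvd_pow_self p three_ne_zero).trans h0) (by norm_num)
  simp only [List.mem_cons, List.not_mem_nil, or_false] at hm
  rcases hm with rfl | rfl | rfl | rfl
  · exact h2 rfl
  · exact h3 rfl
  · norm_num at h0
  · norm_num at h0

/-- `m22` : order `2^7 * 3^2 * 5^1 * 7^1 * 11^1` -/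
theorem row_m22_rest {S : Type u} [Group S] (h : Spor.IsoM22 S) {p : ℕ} [hp : Fact p.Prime] (h2 : p ≠ 2) : Row p S := by
  have hc : Nat.card S = 443520 := NotCT.Orders.m22 h
  have hfin : Finite S := Nat.finite_of_card_ne_zero (by rw [hc]; norm_num)
  refine row_of_cube h2 (H489.card_out_sporadic (by simp only [IsSporadicGroup, h, true_or, or_true])) fun h0 => ?_
  rw [hc] at h0
  have hm : p ∈ [2, 3, 5, 7, 11] := H852.IMSuz.prime_cases' hp.out [2, 3, 5, 7, 11] (by norm_num) 7
    (n := 443520) ((dvd_pow_self p three_ne_zero).trans h0) (by norm_num)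
  simp only [List.mem_cons, List.not_mem_nil, or_false] at hm
  rcases hm with rfl | rfl | rfl | rfl | rfl
  · exact h2 rfl
  · norm_num at h0
  · norm_num at h0
  · norm_num at h0
  · norm_num at h0

/-- `m23` : order `2^7 * 3^2 * 5^1 * 7^1 * 11^1 * 23^1` -/
theorem row_m23_rest {S : Type u} [Group S] (h : Spor.IsoM23 S) {p : ℕ} [hp : Fact p.Prime] (h2 : p ≠ 2) : Row p S := by
  have hc : Nat.card S = 10200960 := NotCT.Orders.m23 h
  have hfin : Finite S := Nat.finite_of_card_ne_zero (by rw [hc]; norm_num)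
  refine row_of_cube h2 (H489.card_out_sporadic (by simp only [IsSporadicGroup, h, true_or, or_true])) fun h0 => ?_
  rw [hc] at h0
  have hm : p ∈ [2, 3, 5, 7, 11, 23] := H852.IMSuz.prime_cases' hp.out [2, 3, 5, 7, 11, 23] (by norm_num) 7
    (n := 10200960) ((dvd_pow_self p three_ne_zero).trans h0) (by norm_num)
  simp only [List.mem_cons, List.not_mem_nil, or_false] at hm
  rcases hm with rfl | rfl | rfl | rfl | rfl | rfl
  · exact h2 rfl
  · norm_num at h0
  · norm_num at h0
  · norm_num at h0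
  · norm_num at h0
  · norm_num at h0

/-- `m24` : order `2^10 * 3^3 * 5^1 * 7^1 * 11^1 * 23^1` -/
theorem row_m24_rest {S : Type u} [Group S] (h : Spor.IsoM24 S) {p : ℕ} [hp : Fact p.Prime] (h2 : p ≠ 2) (h3 : p ≠ 3) : Row p S := by
  have hc : Nat.card S = 244823040 := NotCT.Orders.m24 h
  have hfin : Finite S := Nat.finite_of_card_ne_zero (by rw [hc]; norm_num)
  refine row_of_cube h2 (H489.card_out_sporadic (by simp only [IsSporadicGroup, h, true_or, or_true])) fun h0 => ?_
  rw [hc] at h0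
  have hm : p ∈ [2, 3, 5, 7, 11, 23] := H852.IMSuz.prime_cases' hp.out [2, 3, 5, 7, 11, 23] (by norm_num) 10
    (n := 244823040) ((dvd_pow_self p three_ne_zero).trans h0) (by norm_num)
  simp only [List.mem_cons, List.not_mem_nil, or_false] at hm
  rcases hm with rfl | rfl | rfl | rfl | rfl | rfl
  · exact h2 rfl
  · exact h3 rfl
  · norm_num at h0
  · norm_num at h0
  · norm_num at h0
  · norm_num at h0

/-- `j1` : order `2^3 * 3^1 * 5^1 * 7^1 * 11^1 * 19^1` -/
theorem row_j1_rest {S : Type u} [Group S] (h : Spor.IsoJ1 S) {p : ℕ} [hp : Fact p.Prime] : Row p S := by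
  have hc : Nat.card S = 175560 := NotCT.Orders.j1 h
  have hfin : Finite S := Nat.finite_of_card_ne_zero (by rw [hc]; norm_num)
  rcases eq_or_ne p 2 with rfl | h2
  · exact row_j1_two h
  refine row_of_cube h2 (H489.card_out_sporadic (by simp only [IsSporadicGroup, h, true_or, or_true])) fun h0 => ?_
  rw [hc] at h0
  have hm : p ∈ [2, 3, 5, 7, 11, 19] := H852.IMSuz.prime_cases' hp.out [2, 3, 5, 7, 11, 19] (by norm_num) 3
    (n := 175560) ((dvd_pow_self p three_ne_zero).trans h0) (by norm_num)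
  simp only [List.mem_cons, List.not_mem_nil, or_false] at hm
  rcases hm with rfl | rfl | rfl | rfl | rfl | rfl
  · exact h2 rfl
  · norm_num at h0
  · norm_num at h0
  · norm_num at h0
  · norm_num at h0
  · norm_num at h0

/-- `j2` : order `2^7 * 3^3 * 5^2 * 7^1` -/
theorem row_j2_rest {S : Type u} [Group S] (h : Spor.IsoJ2 S) {p : ℕ} [hp : Fact p.Prime] (h2 : p ≠ 2) (h3 : p ≠ 3) : Row p S := by
  have hc : Nat.card S = 604800 := NotCT.Orders.j2 h
  have hfin : Finite S := Nat.finite_of_card_ne_zero (by rw [hc]; norm_num)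
  refine row_of_cube h2 (H489.card_out_sporadic (by simp only [IsSporadicGroup, h, true_or, or_true])) fun h0 => ?_
  rw [hc] at h0
  have hm : p ∈ [2, 3, 5, 7] := H852.IMSuz.prime_cases' hp.out [2, 3, 5, 7] (by norm_num) 7
    (n := 604800) ((dvd_pow_self p three_ne_zero).trans h0) (by norm_num)
  simp only [List.mem_cons, List.not_mem_nil, or_false] at hm
  rcases hm with rfl | rfl | rfl | rfl
  · exact h2 rfl
  · exact h3 rfl
  · norm_num at h0
  · norm_num at h0

/-- `j3` : order `2^7 * 3^5 * 5^1 * 17^1 * 19^1` -/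
theorem row_j3_rest {S : Type u} [Group S] (h : Spor.IsoJ3 S) {p : ℕ} [hp : Fact p.Prime] (h2 : p ≠ 2) (h3 : p ≠ 3) : Row p S := by
  have hc : Nat.card S = 50232960 := NotCT.Orders.j3 h
  have hfin : Finite S := Nat.finite_of_card_ne_zero (by rw [hc]; norm_num)
  refine row_of_cube h2 (H489.card_out_sporadic (by simp only [IsSporadicGroup, h, true_or, or_true])) fun h0 => ?_
  rw [hc] at h0
  have hm : p ∈ [2, 3, 5, 17, 19] := H852.IMSuz.prime_cases' hp.out [2, 3, 5, 17, 19] (by norm_num) 7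
    (n := 50232960) ((dvd_pow_self p three_ne_zero).trans h0) (by norm_num)
  simp only [List.mem_cons, List.not_mem_nil, or_false] at hm
  rcases hm with rfl | rfl | rfl | rfl | rfl
  · exact h2 rfl
  · exact h3 rfl
  · norm_num at h0
  · norm_num at h0
  · norm_num at h0

/-- `j4` : order `2^21 * 3^3 * 5^1 * 7^1 * 11^3 * 23^1 * 29^1 * 31^1 * 37^1 * 43^1` -/
theorem row_j4_rest {S : Type u} [Group S] (h : Spor.IsoJ4 S) {p : ℕ} [hp : Fact p.Prime] (h2 : p ≠ 2) (h3 : p ≠ 3) (h11 : p ≠ 11) : Row p S := by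
  have hc : Nat.card S = 86775571046077562880 := NotCT.Orders.j4 h
  have hfin : Finite S := Nat.finite_of_card_ne_zero (by rw [hc]; norm_num)
  refine row_of_cube h2 (H489.card_out_sporadic (by simp only [IsSporadicGroup, h, true_or, or_true])) fun h0 => ?_
  rw [hc] at h0
  have hm : p ∈ [2, 3, 5, 7, 11, 23, 29, 31, 37, 43] := H852.IMSuz.prime_cases' hp.out [2, 3, 5, 7, 11, 23, 29, 31, 37, 43] (by norm_num) 21
    (n := 86775571046077562880) ((dvd_pow_self p three_ne_zero).trans h0) (by norm_num)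
  simp only [List.mem_cons, List.not_mem_nil, or_false] at hm
  rcases hm with rfl | rfl | rfl | rfl | rfl | rfl | rfl | rfl | rfl | rfl
  · exact h2 rfl
  · exact h3 rfl
  · norm_num at h0
  · norm_num at h0
  · exact h11 rfl
  · norm_num at h0
  · norm_num at h0
  · norm_num at h0
  · norm_num at h0
  · norm_num at h0

/-- `hs` : order `2^9 * 3^2 * 5^3 * 7^1 * 11^1` -/
theorem row_hs_rest {S : Type u} [Group S] (h : Spor.IsoHS S) {p : ℕ} [hp : Fact p.Prime] (h2 : p ≠ 2) (h5 : p ≠ 5) : Row p S := by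
  have hc : Nat.card S = 44352000 := NotCT.Orders.hs h
  have hfin : Finite S := Nat.finite_of_card_ne_zero (by rw [hc]; norm_num)
  refine row_of_cube h2 (H489.card_out_sporadic (by simp only [IsSporadicGroup, h, true_or, or_true])) fun h0 => ?_
  rw [hc] at h0
  have hm : p ∈ [2, 3, 5, 7, 11] := H852.IMSuz.prime_cases' hp.out [2, 3, 5, 7, 11] (by norm_num) 9
    (n := 44352000) ((dvd_pow_self p three_ne_zero).trans h0) (by norm_num)
  simp only [List.mem_cons, List.not_mem_nil, or_false] at hm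
  rcases hm with rfl | rfl | rfl | rfl | rfl
  · exact h2 rfl
  · norm_num at h0
  · exact h5 rfl
  · norm_num at h0
  · norm_num at h0

/-- `he` : order `2^10 * 3^3 * 5^2 * 7^3 * 17^1` -/
theorem row_he_rest {S : Type u} [Group S] (h : Spor.IsoHe S) {p : ℕ} [hp : Fact p.Prime] (h2 : p ≠ 2) (h3 : p ≠ 3) (h7 : p ≠ 7) : Row p S := by
  have hc : Nat.card S = 4030387200 := NotCT.Orders.he h
  have hfin : Finite S := Nat.finite_of_card_ne_zero (by rw [hc]; norm_num)
  refine row_of_cube h2 (H489.card_out_sporadic (by simp only [IsSporadicGroup, h, true_or, or_true])) fun h0 => ?_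
  rw [hc] at h0
  have hm : p ∈ [2, 3, 5, 7, 17] := H852.IMSuz.prime_cases' hp.out [2, 3, 5, 7, 17] (by norm_num) 10
    (n := 4030387200) ((dvd_pow_self p three_ne_zero).trans h0) (by norm_num)
  simp only [List.mem_cons, List.not_mem_nil, or_false] at hm
  rcases hm with rfl | rfl | rfl | rfl | rfl
  · exact h2 rfl
  · exact h3 rfl
  · norm_num at h0
  · exact h7 rfl
  · norm_num at h0

/-- `mcl` : order `2^7 * 3^6 * 5^3 * 7^1 * 11^1` -/
theorem row_mcl_rest {S : Type u} [Group S] (h : Spor.IsoMcL S) {p : ℕ} [hp : Fact p.Prime] (h2 : p ≠ 2) (h3 : p ≠ 3) (h5 : p ≠ 5) : Row p S := by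
  have hc : Nat.card S = 898128000 := NotCT.Orders.mcl h
  have hfin : Finite S := Nat.finite_of_card_ne_zero (by rw [hc]; norm_num)
  refine row_of_cube h2 (H489.card_out_sporadic (by simp only [IsSporadicGroup, h, true_or, or_true])) fun h0 => ?_
  rw [hc] at h0
  have hm : p ∈ [2, 3, 5, 7, 11] := H852.IMSuz.prime_cases' hp.out [2, 3, 5, 7, 11] (by norm_num) 7
    (n := 898128000) ((dvd_pow_self p three_ne_zero).trans h0) (by norm_num)
  simp only [List.mem_cons, List.not_mem_nil, or_false] at hm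
  rcases hm with rfl | rfl | rfl | rfl | rfl
  · exact h2 rfl
  · exact h3 rfl
  · exact h5 rfl
  · norm_num at h0
  · norm_num at h0

/-- `suz` : order `2^13 * 3^7 * 5^2 * 7^1 * 11^1 * 13^1` -/
theorem row_suz_rest {S : Type u} [Group S] (h : Spor.IsoSuz S) {p : ℕ} [hp : Fact p.Prime] (h2 : p ≠ 2) (h3 : p ≠ 3) : Row p S := by
  have hc : Nat.card S = 448345497600 := NotCT.Orders.suz h
  have hfin : Finite S := Nat.finite_of_card_ne_zero (by rw [hc]; norm_num)
  refine row_of_cube h2 (H489.card_out_sporadic (by simp only [IsSporadicGroup, h, true_or, or_true])) fun h0 => ?_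
  rw [hc] at h0
  have hm : p ∈ [2, 3, 5, 7, 11, 13] := H852.IMSuz.prime_cases' hp.out [2, 3, 5, 7, 11, 13] (by norm_num) 13
    (n := 448345497600) ((dvd_pow_self p three_ne_zero).trans h0) (by norm_num)
  simp only [List.mem_cons, List.not_mem_nil, or_false] at hm
  rcases hm with rfl | rfl | rfl | rfl | rfl | rfl
  · exact h2 rfl
  · exact h3 rfl
  · norm_num at h0
  · norm_num at h0
  · norm_num at h0
  · norm_num at h0

/-- `ly` : order `2^8 * 3^7 * 5^6 * 7^1 * 11^1 * 31^1 * 37^1 * 67^1` -/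
theorem row_ly_rest {S : Type u} [Group S] (h : Spor.IsoLy S) {p : ℕ} [hp : Fact p.Prime] (h2 : p ≠ 2) (h3 : p ≠ 3) (h5 : p ≠ 5) : Row p S := by
  have hc : Nat.card S = 51765179004000000 := NotCT.Orders.ly h
  have hfin : Finite S := Nat.finite_of_card_ne_zero (by rw [hc]; norm_num)
  refine row_of_cube h2 (H489.card_out_sporadic (by simp only [IsSporadicGroup, h, true_or, or_true])) fun h0 => ?_
  rw [hc] at h0
  have hm : p ∈ [2, 3, 5, 7, 11, 31, 37, 67] := H852.IMSuz.prime_cases' hp.out [2, 3, 5, 7, 11, 31, 37, 67] (by norm_num) 8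
    (n := 51765179004000000) ((dvd_pow_self p three_ne_zero).trans h0) (by norm_num)
  simp only [List.mem_cons, List.not_mem_nil, or_false] at hm
  rcases hm with rfl | rfl | rfl | rfl | rfl | rfl | rfl | rfl
  · exact h2 rfl
  · exact h3 rfl
  · exact h5 rfl
  · norm_num at h0
  · norm_num at h0
  · norm_num at h0
  · norm_num at h0
  · norm_num at h0

/-- `on` : order `2^9 * 3^4 * 5^1 * 7^3 * 11^1 * 19^1 * 31^1` -/
theorem row_on_rest {S : Type u} [Group S] (h : Spor.IsoON S) {p : ℕ} [hp : Fact p.Prime] (h2 : p ≠ 2) (h7 : p ≠ 7) : Row p S := by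
  have hc : Nat.card S = 460815505920 := NotCT.Orders.on h
  have hfin : Finite S := Nat.finite_of_card_ne_zero (by rw [hc]; norm_num)
  rcases eq_or_ne p 3 with rfl | h3
  · exact row_of_comm (not_dvd_two (by norm_num) (H489.card_out_sporadic (by simp only [IsSporadicGroup, h, true_or, or_true])) card_out_ne_zero) (H573.Spor.on_3 h)
  refine row_of_cube h2 (H489.card_out_sporadic (by simp only [IsSporadicGroup, h, true_or, or_true])) fun h0 => ?_
  rw [hc] at h0
  have hm : p ∈ [2, 3, 5, 7, 11, 19, 31] := H852.IMSuz.prime_cases' hp.out [2, 3, 5, 7, 11, 19, 31] (by norm_num) 9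
    (n := 460815505920) ((dvd_pow_self p three_ne_zero).trans h0) (by norm_num)
  simp only [List.mem_cons, List.not_mem_nil, or_false] at hm
  rcases hm with rfl | rfl | rfl | rfl | rfl | rfl | rfl
  · exact h2 rfl
  · exact h3 rfl
  · norm_num at h0
  · exact h7 rfl
  · norm_num at h0
  · norm_num at h0
  · norm_num at h0

/-- `ru` : order `2^14 * 3^3 * 5^3 * 7^1 * 13^1 * 29^1` -/
theorem row_ru_rest {S : Type u} [Group S] (h : Spor.IsoRu S) {p : ℕ} [hp : Fact p.Prime] (h2 : p ≠ 2) (h3 : p ≠ 3) (h5 : p ≠ 5) : Row p S := by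
  have hc : Nat.card S = 145926144000 := NotCT.Orders.ru h
  have hfin : Finite S := Nat.finite_of_card_ne_zero (by rw [hc]; norm_num)
  refine row_of_cube h2 (H489.card_out_sporadic (by simp only [IsSporadicGroup, h, true_or, or_true])) fun h0 => ?_
  rw [hc] at h0
  have hm : p ∈ [2, 3, 5, 7, 13, 29] := H852.IMSuz.prime_cases' hp.out [2, 3, 5, 7, 13, 29] (by norm_num) 14
    (n := 145926144000) ((dvd_pow_self p three_ne_zero).trans h0) (by norm_num)
  simp only [List.mem_cons, List.not_mem_nil, or_false] at hm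
  rcases hm with rfl | rfl | rfl | rfl | rfl | rfl
  · exact h2 rfl
  · exact h3 rfl
  · exact h5 rfl
  · norm_num at h0
  · norm_num at h0
  · norm_num at h0

/-- `co1` : order `2^21 * 3^9 * 5^4 * 7^2 * 11^1 * 13^1 * 23^1` -/
theorem row_co1_rest {S : Type u} [Group S] (h : Spor.IsoCo1 S) {p : ℕ} [hp : Fact p.Prime] (h2 : p ≠ 2) (h3 : p ≠ 3) (h5 : p ≠ 5) : Row p S := by
  have hc : Nat.card S = 4157776806543360000 := NotCT.Orders.co1 h
  have hfin : Finite S := Nat.finite_of_card_ne_zero (by rw [hc]; norm_num)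
  refine row_of_cube h2 (H489.card_out_sporadic (by simp only [IsSporadicGroup, h, true_or, or_true])) fun h0 => ?_
  rw [hc] at h0
  have hm : p ∈ [2, 3, 5, 7, 11, 13, 23] := H852.IMSuz.prime_cases' hp.out [2, 3, 5, 7, 11, 13, 23] (by norm_num) 21
    (n := 4157776806543360000) ((dvd_pow_self p three_ne_zero).trans h0) (by norm_num)
  simp only [List.mem_cons, List.not_mem_nil, or_false] at hm
  rcases hm with rfl | rfl | rfl | rfl | rfl | rfl | rfl
  · exact h2 rfl
  · exact h3 rfl
  · exact h5 rfl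
  · norm_num at h0
  · norm_num at h0
  · norm_num at h0
  · norm_num at h0

/-- `co2` : order `2^18 * 3^6 * 5^3 * 7^1 * 11^1 * 23^1` -/
theorem row_co2_rest {S : Type u} [Group S] (h : Spor.IsoCo2 S) {p : ℕ} [hp : Fact p.Prime] (h2 : p ≠ 2) (h3 : p ≠ 3) (h5 : p ≠ 5) : Row p S := by
  have hc : Nat.card S = 42305421312000 := NotCT.Orders.co2 h
  have hfin : Finite S := Nat.finite_of_card_ne_zero (by rw [hc]; norm_num)
  refine row_of_cube h2 (H489.card_out_sporadic (by simp only [IsSporadicGroup, h, true_or, or_true])) fun h0 => ?_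
  rw [hc] at h0
  have hm : p ∈ [2, 3, 5, 7, 11, 23] := H852.IMSuz.prime_cases' hp.out [2, 3, 5, 7, 11, 23] (by norm_num) 18
    (n := 42305421312000) ((dvd_pow_self p three_ne_zero).trans h0) (by norm_num)
  simp only [List.mem_cons, List.not_mem_nil, or_false] at hm
  rcases hm with rfl | rfl | rfl | rfl | rfl | rfl
  · exact h2 rfl
  · exact h3 rfl
  · exact h5 rfl
  · norm_num at h0
  · norm_num at h0
  · norm_num at h0

/-- `co3` : order `2^10 * 3^7 * 5^3 * 7^1 * 11^1 * 23^1` -/
theorem row_co3_rest {S : Type u} [Group S] (h : Spor.IsoCo3 S) {p : ℕ} [hp : Fact p.Prime] (h2 : p ≠ 2) (h3 : p ≠ 3) (h5 : p ≠ 5) : Row p S := by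
  have hc : Nat.card S = 495766656000 := NotCT.Orders.co3 h
  have hfin : Finite S := Nat.finite_of_card_ne_zero (by rw [hc]; norm_num)
  refine row_of_cube h2 (H489.card_out_sporadic (by simp only [IsSporadicGroup, h, true_or, or_true])) fun h0 => ?_
  rw [hc] at h0
  have hm : p ∈ [2, 3, 5, 7, 11, 23] := H852.IMSuz.prime_cases' hp.out [2, 3, 5, 7, 11, 23] (by norm_num) 10
    (n := 495766656000) ((dvd_pow_self p three_ne_zero).trans h0) (by norm_num)
  simp only [List.mem_cons, List.not_mem_nil, or_false] at hm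
  rcases hm with rfl | rfl | rfl | rfl | rfl | rfl
  · exact h2 rfl
  · exact h3 rfl
  · exact h5 rfl
  · norm_num at h0
  · norm_num at h0
  · norm_num at h0

/-- `fi22` : order `2^17 * 3^9 * 5^2 * 7^1 * 11^1 * 13^1` -/
theorem row_fi22_rest {S : Type u} [Group S] (h : Spor.IsoFi22 S) {p : ℕ} [hp : Fact p.Prime] (h2 : p ≠ 2) (h3 : p ≠ 3) : Row p S := by
  have hc : Nat.card S = 64561751654400 := NotCT.Orders.fi22 h
  have hfin : Finite S := Nat.finite_of_card_ne_zero (by rw [hc]; norm_num)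
  refine row_of_cube h2 (H489.card_out_sporadic (by simp only [IsSporadicGroup, h, true_or, or_true])) fun h0 => ?_
  rw [hc] at h0
  have hm : p ∈ [2, 3, 5, 7, 11, 13] := H852.IMSuz.prime_cases' hp.out [2, 3, 5, 7, 11, 13] (by norm_num) 17
    (n := 64561751654400) ((dvd_pow_self p three_ne_zero).trans h0) (by norm_num)
  simp only [List.mem_cons, List.not_mem_nil, or_false] at hm
  rcases hm with rfl | rfl | rfl | rfl | rfl | rfl
  · exact h2 rfl
  · exact h3 rfl
  · norm_num at h0
  · norm_num at h0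
  · norm_num at h0
  · norm_num at h0

/-- `fi23` : order `2^18 * 3^13 * 5^2 * 7^1 * 11^1 * 13^1 * 17^1 * 23^1` -/
theorem row_fi23_rest {S : Type u} [Group S] (h : Spor.IsoFi23 S) {p : ℕ} [hp : Fact p.Prime] (h2 : p ≠ 2) (h3 : p ≠ 3) : Row p S := by
  have hc : Nat.card S = 4089470473293004800 := NotCT.Orders.fi23 h
  have hfin : Finite S := Nat.finite_of_card_ne_zero (by rw [hc]; norm_num)
  refine row_of_cube h2 (H489.card_out_sporadic (by simp only [IsSporadicGroup, h, true_or, or_true])) fun h0 => ?_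
  rw [hc] at h0
  have hm : p ∈ [2, 3, 5, 7, 11, 13, 17, 23] := H852.IMSuz.prime_cases' hp.out [2, 3, 5, 7, 11, 13, 17, 23] (by norm_num) 18
    (n := 4089470473293004800) ((dvd_pow_self p three_ne_zero).trans h0) (by norm_num)
  simp only [List.mem_cons, List.not_mem_nil, or_false] at hm
  rcases hm with rfl | rfl | rfl | rfl | rfl | rfl | rfl | rfl
  · exact h2 rfl
  · exact h3 rfl
  · norm_num at h0
  · norm_num at h0
  · norm_num at h0
  · norm_num at h0
  · norm_num at h0
  · norm_num at h0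

/-- `fi24` : order `2^21 * 3^16 * 5^2 * 7^3 * 11^1 * 13^1 * 17^1 * 23^1 * 29^1` -/
theorem row_fi24_rest {S : Type u} [Group S] (h : Spor.IsoFi24' S) {p : ℕ} [hp : Fact p.Prime] (h2 : p ≠ 2) (h3 : p ≠ 3) (h7 : p ≠ 7) : Row p S := by
  have hc : Nat.card S = 1255205709190661721292800 := NotCT.Orders.fi24 h
  have hfin : Finite S := Nat.finite_of_card_ne_zero (by rw [hc]; norm_num)
  refine row_of_cube h2 (H489.card_out_sporadic (by simp only [IsSporadicGroup, h, true_or, or_true])) fun h0 => ?_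
  rw [hc] at h0
  have hm : p ∈ [2, 3, 5, 7, 11, 13, 17, 23, 29] := H852.IMSuz.prime_cases' hp.out [2, 3, 5, 7, 11, 13, 17, 23, 29] (by norm_num) 21
    (n := 1255205709190661721292800) ((dvd_pow_self p three_ne_zero).trans h0) (by norm_num)
  simp only [List.mem_cons, List.not_mem_nil, or_false] at hm
  rcases hm with rfl | rfl | rfl | rfl | rfl | rfl | rfl | rfl | rfl
  · exact h2 rfl
  · exact h3 rfl
  · norm_num at h0
  · exact h7 rfl
  · norm_num at h0
  · norm_num at h0
  · norm_num at h0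
  · norm_num at h0
  · norm_num at h0

/-- `th` : order `2^15 * 3^10 * 5^3 * 7^2 * 13^1 * 19^1 * 31^1` -/
theorem row_th_rest {S : Type u} [Group S] (h : Spor.IsoTh S) {p : ℕ} [hp : Fact p.Prime] (h2 : p ≠ 2) (h3 : p ≠ 3) (h5 : p ≠ 5) : Row p S := by
  have hc : Nat.card S = 90745943887872000 := NotCT.Orders.th h
  have hfin : Finite S := Nat.finite_of_card_ne_zero (by rw [hc]; norm_num)
  refine row_of_cube h2 (H489.card_out_sporadic (by simp only [IsSporadicGroup, h, true_or, or_true])) fun h0 => ?_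
  rw [hc] at h0
  have hm : p ∈ [2, 3, 5, 7, 13, 19, 31] := H852.IMSuz.prime_cases' hp.out [2, 3, 5, 7, 13, 19, 31] (by norm_num) 15
    (n := 90745943887872000) ((dvd_pow_self p three_ne_zero).trans h0) (by norm_num)
  simp only [List.mem_cons, List.not_mem_nil, or_false] at hm
  rcases hm with rfl | rfl | rfl | rfl | rfl | rfl | rfl
  · exact h2 rfl
  · exact h3 rfl
  · exact h5 rfl
  · norm_num at h0
  · norm_num at h0
  · norm_num at h0
  · norm_num at h0

/-- `hn` : order `2^14 * 3^6 * 5^6 * 7^1 * 11^1 * 19^1` -/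
theorem row_hn_rest {S : Type u} [Group S] (h : Spor.IsoHN S) {p : ℕ} [hp : Fact p.Prime] (h2 : p ≠ 2) (h3 : p ≠ 3) (h5 : p ≠ 5) : Row p S := by
  have hc : Nat.card S = 273030912000000 := NotCT.Orders.hn h
  have hfin : Finite S := Nat.finite_of_card_ne_zero (by rw [hc]; norm_num)
  refine row_of_cube h2 (H489.card_out_sporadic (by simp only [IsSporadicGroup, h, true_or, or_true])) fun h0 => ?_
  rw [hc] at h0
  have hm : p ∈ [2, 3, 5, 7, 11, 19] := H852.IMSuz.prime_cases' hp.out [2, 3, 5, 7, 11, 19] (by norm_num) 14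
    (n := 273030912000000) ((dvd_pow_self p three_ne_zero).trans h0) (by norm_num)
  simp only [List.mem_cons, List.not_mem_nil, or_false] at hm
  rcases hm with rfl | rfl | rfl | rfl | rfl | rfl
  · exact h2 rfl
  · exact h3 rfl
  · exact h5 rfl
  · norm_num at h0
  · norm_num at h0
  · norm_num at h0

/-- `b` : order `2^41 * 3^13 * 5^6 * 7^2 * 11^1 * 13^1 * 17^1 * 19^1 * 23^1 * 31^1 * 47^1` -/
theorem row_b_rest {S : Type u} [Group S] (h : Spor.IsoB S) {p : ℕ} [hp : Fact p.Prime] (h2 : p ≠ 2) (h3 : p ≠ 3) (h5 : p ≠ 5) : Row p S := by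
  have hc : Nat.card S = 4154781481226426191177580544000000 := NotCT.Orders.b h
  have hfin : Finite S := Nat.finite_of_card_ne_zero (by rw [hc]; norm_num)
  refine row_of_cube h2 (H489.card_out_sporadic (by simp only [IsSporadicGroup, h, true_or, or_true])) fun h0 => ?_
  rw [hc] at h0
  have hm : p ∈ [2, 3, 5, 7, 11, 13, 17, 19, 23, 31, 47] := H852.IMSuz.prime_cases' hp.out [2, 3, 5, 7, 11, 13, 17, 19, 23, 31, 47] (by norm_num) 41
    (n := 4154781481226426191177580544000000) ((dvd_pow_self p three_ne_zero).trans h0) (by norm_num)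
  simp only [List.mem_cons, List.not_mem_nil, or_false] at hm
  rcases hm with rfl | rfl | rfl | rfl | rfl | rfl | rfl | rfl | rfl | rfl | rfl
  · exact h2 rfl
  · exact h3 rfl
  · exact h5 rfl
  · norm_num at h0
  · norm_num at h0
  · norm_num at h0
  · norm_num at h0
  · norm_num at h0
  · norm_num at h0
  · norm_num at h0
  · norm_num at h0

/-- `m` : order `2^46 * 3^20 * 5^9 * 7^6 * 11^2 * 13^3 * 17^1 * 19^1 * 23^1 * 29^1 * 31^1 * 41^1 * 47^1 * 59^1 * 71^1` -/
theorem row_m_rest {S : Type u} [Group S] (h : Spor.IsoM S) {p : ℕ} [hp : Fact p.Prime] (h2 : p ≠ 2) (h3 : p ≠ 3) (h5 : p ≠ 5) (h7 : p ≠ 7) (h13 : p ≠ 13) : Row p S := by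
  have hc : Nat.card S = 808017424794512875886459904961710757005754368000000000 := NotCT.Orders.m h
  have hfin : Finite S := Nat.finite_of_card_ne_zero (by rw [hc]; norm_num)
  refine row_of_cube h2 (H489.card_out_sporadic (by simp only [IsSporadicGroup, h, true_or, or_true])) fun h0 => ?_
  rw [hc] at h0
  have hm : p ∈ [2, 3, 5, 7, 11, 13, 17, 19, 23, 29, 31, 41, 47, 59, 71] := H852.IMSuz.prime_cases' hp.out [2, 3, 5, 7, 11, 13, 17, 19, 23, 29, 31, 41, 47, 59, 71] (by norm_num) 46
    (n := 808017424794512875886459904961710757005754368000000000) ((dvd_pow_self p three_ne_zero).trans h0) (by norm_num)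
  simp only [List.mem_cons, List.not_mem_nil, or_false] at hm
  rcases hm with rfl | rfl | rfl | rfl | rfl | rfl | rfl | rfl | rfl | rfl | rfl | rfl | rfl | rfl | rfl
  · exact h2 rfl
  · exact h3 rfl
  · exact h5 rfl
  · exact h7 rfl
  · norm_num at h0
  · exact h13 rfl
  · norm_num at h0
  · norm_num at h0
  · norm_num at h0
  · norm_num at h0
  · norm_num at h0
  · norm_num at h0
  · norm_num at h0
  · norm_num at h0
  · norm_num at h0

/-- `tits` : order `2^11 * 3^3 * 5^2 * 13^1` -/
theorem row_tits_rest {S : Type u} [Group S] (h : Lie.IsoTits S) {p : ℕ} [hp : Fact p.Prime] (h2 : p ≠ 2) (h3 : p ≠ 3) : Row p S := by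
  have hc : Nat.card S = 17971200 := NotCT.Orders.tits h
  have hfin : Finite S := Nat.finite_of_card_ne_zero (by rw [hc]; norm_num)
  refine row_of_cube h2 (H489.card_out_tits h) fun h0 => ?_
  rw [hc] at h0
  have hm : p ∈ [2, 3, 5, 13] := H852.IMSuz.prime_cases' hp.out [2, 3, 5, 13] (by norm_num) 11
    (n := 17971200) ((dvd_pow_self p three_ne_zero).trans h0) (by norm_num)
  simp only [List.mem_cons, List.not_mem_nil, or_false] at hm
  rcases hm with rfl | rfl | rfl | rfl
  · exact h2 rfl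
  · exact h3 rfl
  · norm_num at h0
  · norm_num at h0

end Cfsg.Agent.H469.HT
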